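import Cfsg.Agent.H559.TI.List
import Cfsg.Agent.S0000
import Cfsg.Agent.OrdDiv.Table
import Cfsg.Agent.H666.SporTI

/-!
# S4821, task TILIST: `result` (helper559)
-/

set_option autoImplicit false

namespace Cfsg.Agent.H559.TI.Final

universe u

theorem result : Cfsg.Agent.H616.TI.GoalTIList.{u} := by
  intro L _ _ _ p _ hna hTI
  exact Cfsg.Agent.H559.TI.List.list_of hna hTI Cfsg.Agent.S0000.result fun P hp2 hnc h =>
    Cfsg.Agent.H666.SporTI.spor_ti Cfsg.Agent.OrdDiv.table (fun S _ _ _ => Cfsg.Agent.S0000.result) hna hp2 hTI P hnc h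

end Cfsg.Agent.H559.TI.Final
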