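import Mathlib
import Cfsg.Agent.H49.McLFive
import Cfsg.Agent.H49.JFourEleven
import Cfsg.Agent.H792.SpHeis

/-!
# S4821, task TILIST: the Sylow `5`-subgroups of `McL` and the Sylow `11`-subgroups of `J4` (helper559)
-/

set_option autoImplicit false
set_option maxRecDepth 20000

namespace Cfsg.Agent.H559.TI.Spor

open Subgroup Cfsg
open scoped commutatorElement

/-- nonabelian Sylow `p`-subgroups of order `p ^ 3` -/
def Cube (p : ℕ) (G : Type*) [Group G] : Prop :=
  ∀ R : Sylow p G, Nat.card (R : Subgroup G) = p ^ 3 ∧ ¬ IsMulCommutative (R : Subgroup G)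

variable {p : ℕ} [hp : Fact p.Prime] {G : Type*} [Group G] [Finite G]

theorem Cube.congr {H : Type*} [Group H] [Finite H] (e : G ≃* H) (h : Cube p G) : Cube p H := by
  intro R
  obtain ⟨S⟩ : Nonempty (Sylow p G) := inferInstance
  obtain ⟨h1, h2⟩ := h S
  have hs : Function.Surjective (e : G →* H) := e.surjective
  have h3 : ((S.mapSurjective hs : Sylow p H) : Subgroup H) = (S : Subgroup G).map (e : G →* H) :=
    Sylow.coe_mapSurjective hs S
  have e2 : (S : Subgroup G) ≃* (R : Subgroup H) :=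
    ((e.subgroupMap (S : Subgroup G)).trans (MulEquiv.subgroupCongr h3.symm)).trans (Sylow.equiv (S.mapSurjective hs) R)
  refine ⟨by rw [← Nat.card_congr e2.toEquiv, h1], fun hc => h2 ⟨⟨fun a b => ?_⟩⟩⟩
  apply e2.injective
  rw [map_mul, map_mul]
  exact hc.is_comm.comm _ _

/-- two elements generating an extraspecial group of order `p ^ 3` and exponent `p` -/
theorem cube_of_elements (h4 : ¬ p ^ 4 ∣ Nat.card G) {x y : G} (hx : x ^ p = 1) (hy : y ^ p = 1)
    (hcx : ⁅x, y⁆ * x = x * ⁅x, y⁆) (hcy : ⁅x, y⁆ * y = y * ⁅x, y⁆) (hc : ⁅x, y⁆ ≠ 1) : Cube p G := by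
  have hne : ¬ x * y = y * x := fun h => hc (commutatorElement_eq_one_iff_mul_comm.2 h)
  have hxy : x * y = ⁅x, y⁆ * (y * x) := by rw [commutatorElement_def]; group
  set c := ⁅x, y⁆ with hcdef
  have hcp : c ^ p = 1 := by
    have h10 : y⁻¹ * x * y = c * x := by
      calc y⁻¹ * x * y = y⁻¹ * (x * y) := by group
        _ = y⁻¹ * (c * (y * x)) := by rw [← hxy]
        _ = y⁻¹ * (c * y) * x := by group
        _ = y⁻¹ * (y * c) * x := by rw [hcy]
        _ = c * x := by group
    have h11 : y⁻¹ * x ^ p * y = c ^ p * x ^ p := by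
      have h12 : (y⁻¹ * x * y) ^ p = y⁻¹ * x ^ p * y := by
        have := conj_pow (i := p) (a := y⁻¹) (b := x)
        rwa [inv_inv] at this
      rw [← h12, h10]
      exact (show Commute c x from hcx).mul_pow p
    rw [hx, mul_one, inv_mul_cancel, mul_one] at h11
    exact h11.symm
  have hH : Cfsg.Agent.H792.SpCube.Heis p y x c := by
    refine ⟨hy, hx, hcp, hcy.symm, hcx.symm, ?_, hc⟩
    rw [hxy]
    have h1 : (y * x) * c = c * (y * x) := by
      rw [mul_assoc, ← hcx, ← mul_assoc, ← hcy, mul_assoc]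
    exact h1.symm
  obtain ⟨S, hS, hSc⟩ := Cfsg.Agent.H792.SpCube.exists_heis h4 hH
  have hyS : y ∈ (S : Subgroup G) := by
    rw [hS]
    exact mem_sup_right (mem_sup_left (mem_zpowers y))
  have hxS : x ∈ (S : Subgroup G) := by
    rw [hS]
    exact mem_sup_left (mem_zpowers x)
  intro R
  let e := Sylow.equiv S R
  refine ⟨by rw [← Nat.card_congr e.toEquiv, hSc], fun hR => hne ?_⟩
  have h1 : e (⟨x, hxS⟩ * ⟨y, hyS⟩) = e (⟨y, hyS⟩ * ⟨x, hxS⟩) := by
    rw [map_mul, map_mul]
    exact hR.is_comm.comm _ _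
  exact congrArg Subtype.val (e.injective h1)

/-! ### `McL` -/

section mcl

open Cfsg.Agent.H49.McLFive Cfsg.Agent.H49.Stab Cfsg.Agent.H49.MatMcL
open Cfsg.Agent.LThreeCo1.Ev

theorem cube_mcl [Fact (Nat.Prime 5)] [Finite Spor.McL] (hcard : ¬ 5 ^ 4 ∣ Nat.card Spor.McL) : Cube 5 Spor.McL := by
  have hx : ∀ i < 32, mx (i + 32) = (mx i)⁻¹ := by
    intro i hi
    unfold mx
    rw [if_neg (by omega), if_pos hi, Nat.add_sub_cancel]
  have W : ∀ {w w' : List ℕ}, eqB (xM M) w w' = true → (w.map mx).prod = (w'.map mx).prod := by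
    intro w w' h
    apply incM_injective
    rw [incM_word, incM_word]
    exact eq_of_eqB (xrep okM) h
  have N : ∀ {w w' : List ℕ}, neB' (xM M) w w' = true → (w.map mx).prod ≠ (w'.map mx).prod := by
    intro w w' h h0
    apply ne_of_neB' (xrep okM) h
    rw [← incM_word, ← incM_word, h0]
  have e33 := hx 1 (by norm_num)
  have e34 := hx 2 (by norm_num)
  norm_num at e33 e34
  have h1 : mx 1 ^ 5 = 1 := by
    have := W c1
    rwa [List.map_replicate, List.prod_replicate] at this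
  have h2 : mx 2 ^ 5 = 1 := by
    have := W c2
    rwa [List.map_replicate, List.prod_replicate] at this
  have h3 : ⁅mx 1, mx 2⁆ * mx 1 = mx 1 * ⁅mx 1, mx 2⁆ := by
    have := W c3
    simp only [List.map_cons, List.map_nil, List.prod_cons, List.prod_nil, mul_one, e33, e34] at this
    rw [commutatorElement_def]
    simpa only [mul_assoc] using this
  have h4 : ⁅mx 1, mx 2⁆ * mx 2 = mx 2 * ⁅mx 1, mx 2⁆ := by
    have := W c4
    simp only [List.map_cons, List.map_nil, List.prod_cons, List.prod_nil, mul_one, e33, e34] at this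
    rw [commutatorElement_def]
    simpa only [mul_assoc] using this
  have h5 : ⁅mx 1, mx 2⁆ ≠ 1 := by
    have := N c5
    simp only [List.map_cons, List.map_nil, List.prod_cons, List.prod_nil, mul_one] at this
    rw [Ne, commutatorElement_eq_one_iff_mul_comm]
    exact this
  exact cube_of_elements hcard h1 h2 h3 h4 h5

end mcl

/-! ### `J4` -/

section j4

open Cfsg.Agent.H49.JFourEleven Cfsg.Agent.H49.Form Cfsg.Agent.Lib.F2MatGroup Cfsg.Agent.J4.Rep112
open Cfsg.Agent.J4.Final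

theorem cube_j4 [Fact (Nat.Prime 11)] : Cube 11 Cfsg.Spor.J4 := by
  have hfin := finite_J4
  obtain ⟨he, hn⟩ := facts
  generalize runG ws gens = L at he hn
  have h1 := he _ (show ([3, 3, 3, 3, 3, 3, 3, 3, 3, 3, 3], []) ∈ es by simp [es])
  have h2 := he _ (show ([2, 2, 2, 2, 2, 2, 2, 2, 2, 2, 2], []) ∈ es by simp [es])
  have h4 := he _ (show ([1, 3], []) ∈ es by simp [es])
  have h5 := he _ (show ([0, 2], []) ∈ es by simp [es])
  have h6 := he _ (show ([3, 2, 1, 0, 3], [3, 3, 2, 1, 0]) ∈ es by simp [es])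
  have h7 := he _ (show ([3, 2, 1, 0, 2], [2, 3, 2, 1, 0]) ∈ es by simp [es])
  have h10 := hn _ (show ([3, 2], [2, 3]) ∈ ns by simp [ns])
  simp only [evG_cons, evG_nil, mul_one] at h1 h2 h4 h5 h6 h7 h10
  generalize getG L 3 = x at *
  generalize getG L 2 = y at *
  have hx : getG L 1 = x⁻¹ := eq_inv_of_mul_eq_one_left h4
  have hy : getG L 0 = y⁻¹ := eq_inv_of_mul_eq_one_left h5
  rw [hx] at h6 h7
  rw [hy] at h6 h7
  have g1 : x ^ 11 = 1 := by rw [← h1]; simp only [pow_succ', pow_zero, mul_one]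
  have g2 : y ^ 11 = 1 := by rw [← h2]; simp only [pow_succ', pow_zero, mul_one]
  have g3 : ⁅x, y⁆ * x = x * ⁅x, y⁆ := by
    rw [commutatorElement_def]; simpa only [mul_assoc] using h6
  have g4 : ⁅x, y⁆ * y = y * ⁅x, y⁆ := by
    rw [commutatorElement_def]; simpa only [mul_assoc] using h7
  have g5 : ⁅x, y⁆ ≠ 1 := by
    rw [Ne, commutatorElement_eq_one_iff_mul_comm]; exact h10
  exact cube_of_elements card_J4' g1 g2 g3 g4 g5

end j4

end Cfsg.Agent.H559.TI.Spor
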